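import Cfsg.Agent.Lib.Helper35.Suz22880.Col0

namespace Cfsg.Agent.Lib.Helper35.Suz22880

open Cfsg.Agent.Lib.Helper35

theorem tchk0 : treeChk PresSuz.cc.inv 7 (fullBases 7 PresSuz.cc.inv PresSuz.R) (fullSub PresSuz.cc.inv S) 0 tree0 = true := by decide +kernel
theorem tchk1 : treeChk PresSuz.cc.inv 7 (fullBases 7 PresSuz.cc.inv PresSuz.R) (fullSub PresSuz.cc.inv S) 1 tree1 = true := by decide +kernel
theorem tchk2 : treeChk PresSuz.cc.inv 7 (fullBases 7 PresSuz.cc.inv PresSuz.R) (fullSub PresSuz.cc.inv S) 2 tree2 = true := by decide +kernel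
theorem tchk3 : treeChk PresSuz.cc.inv 7 (fullBases 7 PresSuz.cc.inv PresSuz.R) (fullSub PresSuz.cc.inv S) 3 tree3 = true := by decide +kernel
theorem tchk4 : treeChk PresSuz.cc.inv 7 (fullBases 7 PresSuz.cc.inv PresSuz.R) (fullSub PresSuz.cc.inv S) 4 tree4 = true := by decide +kernel
theorem tchk5 : treeChk PresSuz.cc.inv 7 (fullBases 7 PresSuz.cc.inv PresSuz.R) (fullSub PresSuz.cc.inv S) 5 tree5 = true := by decide +kernel
theorem tchk6 : treeChk PresSuz.cc.inv 7 (fullBases 7 PresSuz.cc.inv PresSuz.R) (fullSub PresSuz.cc.inv S) 6 tree6 = true := by decide +kernel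
theorem tchk7 : treeChk PresSuz.cc.inv 7 (fullBases 7 PresSuz.cc.inv PresSuz.R) (fullSub PresSuz.cc.inv S) 7 tree7 = true := by decide +kernel

noncomputable def certData2 : CertData2 PresSuz.cc.C PresSuz.cc.inv PresSuz.R S 22880 where
  P := par
  hP := ⟨by decide +kernel, by decide +kernel, by decide +kernel, by decide +kernel, by decide +kernel⟩
  tabs := tabs
  N := 28560
  st := st
  hst := hst
  trees := trees
  je := je
  pe := pe
  rb := 8
  mR := 255
  cK := 8
  hcK := by decide +kernel
  htree := by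
    intro l hl
    have hl' : l ≤ 7 := hl
    interval_cases l
    exacts [tchk0, tchk1, tchk2, tchk3, tchk4, tchk5, tchk6, tchk7]
  hN := by decide +kernel
  hN1 := by decide +kernel
  hlo := by
    intro l hl
    have hl' : l ≤ 7 := hl
    interval_cases l <;> decide +kernel
  hhi := by
    intro l hl
    have hl' : l ≤ 7 := hl
    interval_cases l <;> decide +kernel
  hz := by
    intro l hl
    have hl' : 7 < l := hl
    obtain ⟨k, rfl⟩ : ∃ k, l = k + 8 := ⟨l - 8, by omega⟩
    rfl
  hcol := by
    intro l hl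
    have hl' : l < 7 := hl
    interval_cases l
    exacts [s0u13, s1u13, s2u13, s3u13, s4u13, s5u13, s6u13]
  heps := s7u7
  hcount := gn2

noncomputable def certData : CertData PresSuz.cc.C PresSuz.cc.inv PresSuz.R S 22880 := certData2.toCertData

end Cfsg.Agent.Lib.Helper35.Suz22880
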