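import Cfsg.Agent.Lib.Helper35.Suz22880.Data

set_option Elab.async false

namespace Cfsg.Agent.Lib.Helper35.Suz22880

open Cfsg.Agent.Lib.Helper35

theorem s0c0 : allBelow (fun k => fs0 (Nat.add (Nat.succ 0) k)) 2464 = true := by decide +kernel
theorem s0u0 : ∀ v, 1 ≤ v → v ≤ 2464 → fs0 v = true := slots_step fs0 0 2464 2464 (slots_zero fs0) s0c0 rfl
theorem s0c1 : allBelow (fun k => fs0 (Nat.add (Nat.succ 2464) k)) 2801 = true := by decide +kernel
theorem s0u1 : ∀ v, 1 ≤ v → v ≤ 5265 → fs0 v = true := slots_step fs0 2464 2801 5265 s0u0 s0c1 rfl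
theorem s0c2 : allBelow (fun k => fs0 (Nat.add (Nat.succ 5265) k)) 2397 = true := by decide +kernel
theorem s0u2 : ∀ v, 1 ≤ v → v ≤ 7662 → fs0 v = true := slots_step fs0 5265 2397 7662 s0u1 s0c2 rfl
theorem s0c3 : allBelow (fun k => fs0 (Nat.add (Nat.succ 7662) k)) 2225 = true := by decide +kernel
theorem s0u3 : ∀ v, 1 ≤ v → v ≤ 9887 → fs0 v = true := slots_step fs0 7662 2225 9887 s0u2 s0c3 rfl
theorem s0c4 : allBelow (fun k => fs0 (Nat.add (Nat.succ 9887) k)) 2196 = true := by decide +kernel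
theorem s0u4 : ∀ v, 1 ≤ v → v ≤ 12083 → fs0 v = true := slots_step fs0 9887 2196 12083 s0u3 s0c4 rfl
theorem s0c5 : allBelow (fun k => fs0 (Nat.add (Nat.succ 12083) k)) 2200 = true := by decide +kernel
theorem s0u5 : ∀ v, 1 ≤ v → v ≤ 14283 → fs0 v = true := slots_step fs0 12083 2200 14283 s0u4 s0c5 rfl
theorem s0c6 : allBelow (fun k => fs0 (Nat.add (Nat.succ 14283) k)) 2004 = true := by decide +kernel
theorem s0u6 : ∀ v, 1 ≤ v → v ≤ 16287 → fs0 v = true := slots_step fs0 14283 2004 16287 s0u5 s0c6 rfl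
theorem s0c7 : allBelow (fun k => fs0 (Nat.add (Nat.succ 16287) k)) 1945 = true := by decide +kernel
theorem s0u7 : ∀ v, 1 ≤ v → v ≤ 18232 → fs0 v = true := slots_step fs0 16287 1945 18232 s0u6 s0c7 rfl
theorem s0c8 : allBelow (fun k => fs0 (Nat.add (Nat.succ 18232) k)) 1906 = true := by decide +kernel
theorem s0u8 : ∀ v, 1 ≤ v → v ≤ 20138 → fs0 v = true := slots_step fs0 18232 1906 20138 s0u7 s0c8 rfl
theorem s0c9 : allBelow (fun k => fs0 (Nat.add (Nat.succ 20138) k)) 1886 = true := by decide +kernel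
theorem s0u9 : ∀ v, 1 ≤ v → v ≤ 22024 → fs0 v = true := slots_step fs0 20138 1886 22024 s0u8 s0c9 rfl
theorem s0c10 : allBelow (fun k => fs0 (Nat.add (Nat.succ 22024) k)) 1817 = true := by decide +kernel
theorem s0u10 : ∀ v, 1 ≤ v → v ≤ 23841 → fs0 v = true := slots_step fs0 22024 1817 23841 s0u9 s0c10 rfl
theorem s0c11 : allBelow (fun k => fs0 (Nat.add (Nat.succ 23841) k)) 1870 = true := by decide +kernel
theorem s0u11 : ∀ v, 1 ≤ v → v ≤ 25711 → fs0 v = true := slots_step fs0 23841 1870 25711 s0u10 s0c11 rfl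
theorem s0c12 : allBelow (fun k => fs0 (Nat.add (Nat.succ 25711) k)) 1765 = true := by decide +kernel
theorem s0u12 : ∀ v, 1 ≤ v → v ≤ 27476 → fs0 v = true := slots_step fs0 25711 1765 27476 s0u11 s0c12 rfl
theorem s0c13 : allBelow (fun k => fs0 (Nat.add (Nat.succ 27476) k)) 1084 = true := by decide +kernel
theorem s0u13 : ∀ v, 1 ≤ v → v ≤ 28560 → fs0 v = true := slots_step fs0 27476 1084 28560 s0u12 s0c13 rfl
theorem s1c0 : allBelow (fun k => fs1 (Nat.add (Nat.succ 0) k)) 2409 = true := by decide +kernel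
theorem s1u0 : ∀ v, 1 ≤ v → v ≤ 2409 → fs1 v = true := slots_step fs1 0 2409 2409 (slots_zero fs1) s1c0 rfl
theorem s1c1 : allBelow (fun k => fs1 (Nat.add (Nat.succ 2409) k)) 2567 = true := by decide +kernel
theorem s1u1 : ∀ v, 1 ≤ v → v ≤ 4976 → fs1 v = true := slots_step fs1 2409 2567 4976 s1u0 s1c1 rfl
theorem s1c2 : allBelow (fun k => fs1 (Nat.add (Nat.succ 4976) k)) 2384 = true := by decide +kernel
theorem s1u2 : ∀ v, 1 ≤ v → v ≤ 7360 → fs1 v = true := slots_step fs1 4976 2384 7360 s1u1 s1c2 rfl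
theorem s1c3 : allBelow (fun k => fs1 (Nat.add (Nat.succ 7360) k)) 2285 = true := by decide +kernel
theorem s1u3 : ∀ v, 1 ≤ v → v ≤ 9645 → fs1 v = true := slots_step fs1 7360 2285 9645 s1u2 s1c3 rfl
theorem s1c4 : allBelow (fun k => fs1 (Nat.add (Nat.succ 9645) k)) 2164 = true := by decide +kernel
theorem s1u4 : ∀ v, 1 ≤ v → v ≤ 11809 → fs1 v = true := slots_step fs1 9645 2164 11809 s1u3 s1c4 rfl
theorem s1c5 : allBelow (fun k => fs1 (Nat.add (Nat.succ 11809) k)) 2119 = true := by decide +kernel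
theorem s1u5 : ∀ v, 1 ≤ v → v ≤ 13928 → fs1 v = true := slots_step fs1 11809 2119 13928 s1u4 s1c5 rfl
theorem s1c6 : allBelow (fun k => fs1 (Nat.add (Nat.succ 13928) k)) 2032 = true := by decide +kernel
theorem s1u6 : ∀ v, 1 ≤ v → v ≤ 15960 → fs1 v = true := slots_step fs1 13928 2032 15960 s1u5 s1c6 rfl
theorem s1c7 : allBelow (fun k => fs1 (Nat.add (Nat.succ 15960) k)) 1899 = true := by decide +kernel
theorem s1u7 : ∀ v, 1 ≤ v → v ≤ 17859 → fs1 v = true := slots_step fs1 15960 1899 17859 s1u6 s1c7 rfl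
theorem s1c8 : allBelow (fun k => fs1 (Nat.add (Nat.succ 17859) k)) 1846 = true := by decide +kernel
theorem s1u8 : ∀ v, 1 ≤ v → v ≤ 19705 → fs1 v = true := slots_step fs1 17859 1846 19705 s1u7 s1c8 rfl
theorem s1c9 : allBelow (fun k => fs1 (Nat.add (Nat.succ 19705) k)) 1943 = true := by decide +kernel
theorem s1u9 : ∀ v, 1 ≤ v → v ≤ 21648 → fs1 v = true := slots_step fs1 19705 1943 21648 s1u8 s1c9 rfl
theorem s1c10 : allBelow (fun k => fs1 (Nat.add (Nat.succ 21648) k)) 1797 = true := by decide +kernel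
theorem s1u10 : ∀ v, 1 ≤ v → v ≤ 23445 → fs1 v = true := slots_step fs1 21648 1797 23445 s1u9 s1c10 rfl
theorem s1c11 : allBelow (fun k => fs1 (Nat.add (Nat.succ 23445) k)) 1891 = true := by decide +kernel
theorem s1u11 : ∀ v, 1 ≤ v → v ≤ 25336 → fs1 v = true := slots_step fs1 23445 1891 25336 s1u10 s1c11 rfl
theorem s1c12 : allBelow (fun k => fs1 (Nat.add (Nat.succ 25336) k)) 1741 = true := by decide +kernel
theorem s1u12 : ∀ v, 1 ≤ v → v ≤ 27077 → fs1 v = true := slots_step fs1 25336 1741 27077 s1u11 s1c12 rfl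
theorem s1c13 : allBelow (fun k => fs1 (Nat.add (Nat.succ 27077) k)) 1483 = true := by decide +kernel
theorem s1u13 : ∀ v, 1 ≤ v → v ≤ 28560 → fs1 v = true := slots_step fs1 27077 1483 28560 s1u12 s1c13 rfl
theorem s2c0 : allBelow (fun k => fs2 (Nat.add (Nat.succ 0) k)) 2477 = true := by decide +kernel
theorem s2u0 : ∀ v, 1 ≤ v → v ≤ 2477 → fs2 v = true := slots_step fs2 0 2477 2477 (slots_zero fs2) s2c0 rfl
theorem s2c1 : allBelow (fun k => fs2 (Nat.add (Nat.succ 2477) k)) 2611 = true := by decide +kernel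
theorem s2u1 : ∀ v, 1 ≤ v → v ≤ 5088 → fs2 v = true := slots_step fs2 2477 2611 5088 s2u0 s2c1 rfl
theorem s2c2 : allBelow (fun k => fs2 (Nat.add (Nat.succ 5088) k)) 2329 = true := by decide +kernel
theorem s2u2 : ∀ v, 1 ≤ v → v ≤ 7417 → fs2 v = true := slots_step fs2 5088 2329 7417 s2u1 s2c2 rfl
theorem s2c3 : allBelow (fun k => fs2 (Nat.add (Nat.succ 7417) k)) 2199 = true := by decide +kernel
theorem s2u3 : ∀ v, 1 ≤ v → v ≤ 9616 → fs2 v = true := slots_step fs2 7417 2199 9616 s2u2 s2c3 rfl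
theorem s2c4 : allBelow (fun k => fs2 (Nat.add (Nat.succ 9616) k)) 2145 = true := by decide +kernel
theorem s2u4 : ∀ v, 1 ≤ v → v ≤ 11761 → fs2 v = true := slots_step fs2 9616 2145 11761 s2u3 s2c4 rfl
theorem s2c5 : allBelow (fun k => fs2 (Nat.add (Nat.succ 11761) k)) 2190 = true := by decide +kernel
theorem s2u5 : ∀ v, 1 ≤ v → v ≤ 13951 → fs2 v = true := slots_step fs2 11761 2190 13951 s2u4 s2c5 rfl
theorem s2c6 : allBelow (fun k => fs2 (Nat.add (Nat.succ 13951) k)) 1997 = true := by decide +kernel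
theorem s2u6 : ∀ v, 1 ≤ v → v ≤ 15948 → fs2 v = true := slots_step fs2 13951 1997 15948 s2u5 s2c6 rfl
theorem s2c7 : allBelow (fun k => fs2 (Nat.add (Nat.succ 15948) k)) 1979 = true := by decide +kernel
theorem s2u7 : ∀ v, 1 ≤ v → v ≤ 17927 → fs2 v = true := slots_step fs2 15948 1979 17927 s2u6 s2c7 rfl
theorem s2c8 : allBelow (fun k => fs2 (Nat.add (Nat.succ 17927) k)) 1933 = true := by decide +kernel
theorem s2u8 : ∀ v, 1 ≤ v → v ≤ 19860 → fs2 v = true := slots_step fs2 17927 1933 19860 s2u7 s2c8 rfl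
theorem s2c9 : allBelow (fun k => fs2 (Nat.add (Nat.succ 19860) k)) 1958 = true := by decide +kernel
theorem s2u9 : ∀ v, 1 ≤ v → v ≤ 21818 → fs2 v = true := slots_step fs2 19860 1958 21818 s2u8 s2c9 rfl
theorem s2c10 : allBelow (fun k => fs2 (Nat.add (Nat.succ 21818) k)) 1774 = true := by decide +kernel
theorem s2u10 : ∀ v, 1 ≤ v → v ≤ 23592 → fs2 v = true := slots_step fs2 21818 1774 23592 s2u9 s2c10 rfl
theorem s2c11 : allBelow (fun k => fs2 (Nat.add (Nat.succ 23592) k)) 1860 = true := by decide +kernel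
theorem s2u11 : ∀ v, 1 ≤ v → v ≤ 25452 → fs2 v = true := slots_step fs2 23592 1860 25452 s2u10 s2c11 rfl
theorem s2c12 : allBelow (fun k => fs2 (Nat.add (Nat.succ 25452) k)) 1720 = true := by decide +kernel
theorem s2u12 : ∀ v, 1 ≤ v → v ≤ 27172 → fs2 v = true := slots_step fs2 25452 1720 27172 s2u11 s2c12 rfl
theorem s2c13 : allBelow (fun k => fs2 (Nat.add (Nat.succ 27172) k)) 1388 = true := by decide +kernel
theorem s2u13 : ∀ v, 1 ≤ v → v ≤ 28560 → fs2 v = true := slots_step fs2 27172 1388 28560 s2u12 s2c13 rfl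
theorem s3c0 : allBelow (fun k => fs3 (Nat.add (Nat.succ 0) k)) 2443 = true := by decide +kernel
theorem s3u0 : ∀ v, 1 ≤ v → v ≤ 2443 → fs3 v = true := slots_step fs3 0 2443 2443 (slots_zero fs3) s3c0 rfl
theorem s3c1 : allBelow (fun k => fs3 (Nat.add (Nat.succ 2443) k)) 2673 = true := by decide +kernel
theorem s3u1 : ∀ v, 1 ≤ v → v ≤ 5116 → fs3 v = true := slots_step fs3 2443 2673 5116 s3u0 s3c1 rfl
theorem s3c2 : allBelow (fun k => fs3 (Nat.add (Nat.succ 5116) k)) 2353 = true := by decide +kernel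
theorem s3u2 : ∀ v, 1 ≤ v → v ≤ 7469 → fs3 v = true := slots_step fs3 5116 2353 7469 s3u1 s3c2 rfl
theorem s3c3 : allBelow (fun k => fs3 (Nat.add (Nat.succ 7469) k)) 2210 = true := by decide +kernel
theorem s3u3 : ∀ v, 1 ≤ v → v ≤ 9679 → fs3 v = true := slots_step fs3 7469 2210 9679 s3u2 s3c3 rfl
theorem s3c4 : allBelow (fun k => fs3 (Nat.add (Nat.succ 9679) k)) 2188 = true := by decide +kernel
theorem s3u4 : ∀ v, 1 ≤ v → v ≤ 11867 → fs3 v = true := slots_step fs3 9679 2188 11867 s3u3 s3c4 rfl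
theorem s3c5 : allBelow (fun k => fs3 (Nat.add (Nat.succ 11867) k)) 2148 = true := by decide +kernel
theorem s3u5 : ∀ v, 1 ≤ v → v ≤ 14015 → fs3 v = true := slots_step fs3 11867 2148 14015 s3u4 s3c5 rfl
theorem s3c6 : allBelow (fun k => fs3 (Nat.add (Nat.succ 14015) k)) 2040 = true := by decide +kernel
theorem s3u6 : ∀ v, 1 ≤ v → v ≤ 16055 → fs3 v = true := slots_step fs3 14015 2040 16055 s3u5 s3c6 rfl
theorem s3c7 : allBelow (fun k => fs3 (Nat.add (Nat.succ 16055) k)) 1916 = true := by decide +kernel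
theorem s3u7 : ∀ v, 1 ≤ v → v ≤ 17971 → fs3 v = true := slots_step fs3 16055 1916 17971 s3u6 s3c7 rfl
theorem s3c8 : allBelow (fun k => fs3 (Nat.add (Nat.succ 17971) k)) 1898 = true := by decide +kernel
theorem s3u8 : ∀ v, 1 ≤ v → v ≤ 19869 → fs3 v = true := slots_step fs3 17971 1898 19869 s3u7 s3c8 rfl
theorem s3c9 : allBelow (fun k => fs3 (Nat.add (Nat.succ 19869) k)) 1877 = true := by decide +kernel
theorem s3u9 : ∀ v, 1 ≤ v → v ≤ 21746 → fs3 v = true := slots_step fs3 19869 1877 21746 s3u8 s3c9 rfl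
theorem s3c10 : allBelow (fun k => fs3 (Nat.add (Nat.succ 21746) k)) 1863 = true := by decide +kernel
theorem s3u10 : ∀ v, 1 ≤ v → v ≤ 23609 → fs3 v = true := slots_step fs3 21746 1863 23609 s3u9 s3c10 rfl
theorem s3c11 : allBelow (fun k => fs3 (Nat.add (Nat.succ 23609) k)) 1906 = true := by decide +kernel
theorem s3u11 : ∀ v, 1 ≤ v → v ≤ 25515 → fs3 v = true := slots_step fs3 23609 1906 25515 s3u10 s3c11 rfl
theorem s3c12 : allBelow (fun k => fs3 (Nat.add (Nat.succ 25515) k)) 1809 = true := by decide +kernel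
theorem s3u12 : ∀ v, 1 ≤ v → v ≤ 27324 → fs3 v = true := slots_step fs3 25515 1809 27324 s3u11 s3c12 rfl
theorem s3c13 : allBelow (fun k => fs3 (Nat.add (Nat.succ 27324) k)) 1236 = true := by decide +kernel
theorem s3u13 : ∀ v, 1 ≤ v → v ≤ 28560 → fs3 v = true := slots_step fs3 27324 1236 28560 s3u12 s3c13 rfl
theorem s4c0 : allBelow (fun k => fs4 (Nat.add (Nat.succ 0) k)) 2582 = true := by decide +kernel
theorem s4u0 : ∀ v, 1 ≤ v → v ≤ 2582 → fs4 v = true := slots_step fs4 0 2582 2582 (slots_zero fs4) s4c0 rfl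
theorem s4c1 : allBelow (fun k => fs4 (Nat.add (Nat.succ 2582) k)) 3007 = true := by decide +kernel
theorem s4u1 : ∀ v, 1 ≤ v → v ≤ 5589 → fs4 v = true := slots_step fs4 2582 3007 5589 s4u0 s4c1 rfl
theorem s4c2 : allBelow (fun k => fs4 (Nat.add (Nat.succ 5589) k)) 2356 = true := by decide +kernel
theorem s4u2 : ∀ v, 1 ≤ v → v ≤ 7945 → fs4 v = true := slots_step fs4 5589 2356 7945 s4u1 s4c2 rfl
theorem s4c3 : allBelow (fun k => fs4 (Nat.add (Nat.succ 7945) k)) 2255 = true := by decide +kernel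
theorem s4u3 : ∀ v, 1 ≤ v → v ≤ 10200 → fs4 v = true := slots_step fs4 7945 2255 10200 s4u2 s4c3 rfl
theorem s4c4 : allBelow (fun k => fs4 (Nat.add (Nat.succ 10200) k)) 2138 = true := by decide +kernel
theorem s4u4 : ∀ v, 1 ≤ v → v ≤ 12338 → fs4 v = true := slots_step fs4 10200 2138 12338 s4u3 s4c4 rfl
theorem s4c5 : allBelow (fun k => fs4 (Nat.add (Nat.succ 12338) k)) 2271 = true := by decide +kernel
theorem s4u5 : ∀ v, 1 ≤ v → v ≤ 14609 → fs4 v = true := slots_step fs4 12338 2271 14609 s4u4 s4c5 rfl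
theorem s4c6 : allBelow (fun k => fs4 (Nat.add (Nat.succ 14609) k)) 2030 = true := by decide +kernel
theorem s4u6 : ∀ v, 1 ≤ v → v ≤ 16639 → fs4 v = true := slots_step fs4 14609 2030 16639 s4u5 s4c6 rfl
theorem s4c7 : allBelow (fun k => fs4 (Nat.add (Nat.succ 16639) k)) 1996 = true := by decide +kernel
theorem s4u7 : ∀ v, 1 ≤ v → v ≤ 18635 → fs4 v = true := slots_step fs4 16639 1996 18635 s4u6 s4c7 rfl
theorem s4c8 : allBelow (fun k => fs4 (Nat.add (Nat.succ 18635) k)) 1961 = true := by decide +kernel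
theorem s4u8 : ∀ v, 1 ≤ v → v ≤ 20596 → fs4 v = true := slots_step fs4 18635 1961 20596 s4u7 s4c8 rfl
theorem s4c9 : allBelow (fun k => fs4 (Nat.add (Nat.succ 20596) k)) 1978 = true := by decide +kernel
theorem s4u9 : ∀ v, 1 ≤ v → v ≤ 22574 → fs4 v = true := slots_step fs4 20596 1978 22574 s4u8 s4c9 rfl
theorem s4c10 : allBelow (fun k => fs4 (Nat.add (Nat.succ 22574) k)) 1943 = true := by decide +kernel
theorem s4u10 : ∀ v, 1 ≤ v → v ≤ 24517 → fs4 v = true := slots_step fs4 22574 1943 24517 s4u9 s4c10 rfl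
theorem s4c11 : allBelow (fun k => fs4 (Nat.add (Nat.succ 24517) k)) 1914 = true := by decide +kernel
theorem s4u11 : ∀ v, 1 ≤ v → v ≤ 26431 → fs4 v = true := slots_step fs4 24517 1914 26431 s4u10 s4c11 rfl
theorem s4c12 : allBelow (fun k => fs4 (Nat.add (Nat.succ 26431) k)) 1808 = true := by decide +kernel
theorem s4u12 : ∀ v, 1 ≤ v → v ≤ 28239 → fs4 v = true := slots_step fs4 26431 1808 28239 s4u11 s4c12 rfl
theorem s4c13 : allBelow (fun k => fs4 (Nat.add (Nat.succ 28239) k)) 321 = true := by decide +kernel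
theorem s4u13 : ∀ v, 1 ≤ v → v ≤ 28560 → fs4 v = true := slots_step fs4 28239 321 28560 s4u12 s4c13 rfl
theorem s5c0 : allBelow (fun k => fs5 (Nat.add (Nat.succ 0) k)) 2493 = true := by decide +kernel
theorem s5u0 : ∀ v, 1 ≤ v → v ≤ 2493 → fs5 v = true := slots_step fs5 0 2493 2493 (slots_zero fs5) s5c0 rfl
theorem s5c1 : allBelow (fun k => fs5 (Nat.add (Nat.succ 2493) k)) 2702 = true := by decide +kernel
theorem s5u1 : ∀ v, 1 ≤ v → v ≤ 5195 → fs5 v = true := slots_step fs5 2493 2702 5195 s5u0 s5c1 rfl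
theorem s5c2 : allBelow (fun k => fs5 (Nat.add (Nat.succ 5195) k)) 2424 = true := by decide +kernel
theorem s5u2 : ∀ v, 1 ≤ v → v ≤ 7619 → fs5 v = true := slots_step fs5 5195 2424 7619 s5u1 s5c2 rfl
theorem s5c3 : allBelow (fun k => fs5 (Nat.add (Nat.succ 7619) k)) 2304 = true := by decide +kernel
theorem s5u3 : ∀ v, 1 ≤ v → v ≤ 9923 → fs5 v = true := slots_step fs5 7619 2304 9923 s5u2 s5c3 rfl
theorem s5c4 : allBelow (fun k => fs5 (Nat.add (Nat.succ 9923) k)) 2273 = true := by decide +kernel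
theorem s5u4 : ∀ v, 1 ≤ v → v ≤ 12196 → fs5 v = true := slots_step fs5 9923 2273 12196 s5u3 s5c4 rfl
theorem s5c5 : allBelow (fun k => fs5 (Nat.add (Nat.succ 12196) k)) 2299 = true := by decide +kernel
theorem s5u5 : ∀ v, 1 ≤ v → v ≤ 14495 → fs5 v = true := slots_step fs5 12196 2299 14495 s5u4 s5c5 rfl
theorem s5c6 : allBelow (fun k => fs5 (Nat.add (Nat.succ 14495) k)) 2047 = true := by decide +kernel
theorem s5u6 : ∀ v, 1 ≤ v → v ≤ 16542 → fs5 v = true := slots_step fs5 14495 2047 16542 s5u5 s5c6 rfl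
theorem s5c7 : allBelow (fun k => fs5 (Nat.add (Nat.succ 16542) k)) 2016 = true := by decide +kernel
theorem s5u7 : ∀ v, 1 ≤ v → v ≤ 18558 → fs5 v = true := slots_step fs5 16542 2016 18558 s5u6 s5c7 rfl
theorem s5c8 : allBelow (fun k => fs5 (Nat.add (Nat.succ 18558) k)) 1992 = true := by decide +kernel
theorem s5u8 : ∀ v, 1 ≤ v → v ≤ 20550 → fs5 v = true := slots_step fs5 18558 1992 20550 s5u7 s5c8 rfl
theorem s5c9 : allBelow (fun k => fs5 (Nat.add (Nat.succ 20550) k)) 1972 = true := by decide +kernel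
theorem s5u9 : ∀ v, 1 ≤ v → v ≤ 22522 → fs5 v = true := slots_step fs5 20550 1972 22522 s5u8 s5c9 rfl
theorem s5c10 : allBelow (fun k => fs5 (Nat.add (Nat.succ 22522) k)) 1965 = true := by decide +kernel
theorem s5u10 : ∀ v, 1 ≤ v → v ≤ 24487 → fs5 v = true := slots_step fs5 22522 1965 24487 s5u9 s5c10 rfl
theorem s5c11 : allBelow (fun k => fs5 (Nat.add (Nat.succ 24487) k)) 1927 = true := by decide +kernel
theorem s5u11 : ∀ v, 1 ≤ v → v ≤ 26414 → fs5 v = true := slots_step fs5 24487 1927 26414 s5u10 s5c11 rfl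
theorem s5c12 : allBelow (fun k => fs5 (Nat.add (Nat.succ 26414) k)) 1822 = true := by decide +kernel
theorem s5u12 : ∀ v, 1 ≤ v → v ≤ 28236 → fs5 v = true := slots_step fs5 26414 1822 28236 s5u11 s5c12 rfl
theorem s5c13 : allBelow (fun k => fs5 (Nat.add (Nat.succ 28236) k)) 324 = true := by decide +kernel
theorem s5u13 : ∀ v, 1 ≤ v → v ≤ 28560 → fs5 v = true := slots_step fs5 28236 324 28560 s5u12 s5c13 rfl
theorem s6c0 : allBelow (fun k => fs6 (Nat.add (Nat.succ 0) k)) 2576 = true := by decide +kernel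
theorem s6u0 : ∀ v, 1 ≤ v → v ≤ 2576 → fs6 v = true := slots_step fs6 0 2576 2576 (slots_zero fs6) s6c0 rfl
theorem s6c1 : allBelow (fun k => fs6 (Nat.add (Nat.succ 2576) k)) 2807 = true := by decide +kernel
theorem s6u1 : ∀ v, 1 ≤ v → v ≤ 5383 → fs6 v = true := slots_step fs6 2576 2807 5383 s6u0 s6c1 rfl
theorem s6c2 : allBelow (fun k => fs6 (Nat.add (Nat.succ 5383) k)) 2463 = true := by decide +kernel
theorem s6u2 : ∀ v, 1 ≤ v → v ≤ 7846 → fs6 v = true := slots_step fs6 5383 2463 7846 s6u1 s6c2 rfl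
theorem s6c3 : allBelow (fun k => fs6 (Nat.add (Nat.succ 7846) k)) 2327 = true := by decide +kernel
theorem s6u3 : ∀ v, 1 ≤ v → v ≤ 10173 → fs6 v = true := slots_step fs6 7846 2327 10173 s6u2 s6c3 rfl
theorem s6c4 : allBelow (fun k => fs6 (Nat.add (Nat.succ 10173) k)) 2307 = true := by decide +kernel
theorem s6u4 : ∀ v, 1 ≤ v → v ≤ 12480 → fs6 v = true := slots_step fs6 10173 2307 12480 s6u3 s6c4 rfl
theorem s6c5 : allBelow (fun k => fs6 (Nat.add (Nat.succ 12480) k)) 2249 = true := by decide +kernel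
theorem s6u5 : ∀ v, 1 ≤ v → v ≤ 14729 → fs6 v = true := slots_step fs6 12480 2249 14729 s6u4 s6c5 rfl
theorem s6c6 : allBelow (fun k => fs6 (Nat.add (Nat.succ 14729) k)) 2065 = true := by decide +kernel
theorem s6u6 : ∀ v, 1 ≤ v → v ≤ 16794 → fs6 v = true := slots_step fs6 14729 2065 16794 s6u5 s6c6 rfl
theorem s6c7 : allBelow (fun k => fs6 (Nat.add (Nat.succ 16794) k)) 2057 = true := by decide +kernel
theorem s6u7 : ∀ v, 1 ≤ v → v ≤ 18851 → fs6 v = true := slots_step fs6 16794 2057 18851 s6u6 s6c7 rfl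
theorem s6c8 : allBelow (fun k => fs6 (Nat.add (Nat.succ 18851) k)) 1969 = true := by decide +kernel
theorem s6u8 : ∀ v, 1 ≤ v → v ≤ 20820 → fs6 v = true := slots_step fs6 18851 1969 20820 s6u7 s6c8 rfl
theorem s6c9 : allBelow (fun k => fs6 (Nat.add (Nat.succ 20820) k)) 1991 = true := by decide +kernel
theorem s6u9 : ∀ v, 1 ≤ v → v ≤ 22811 → fs6 v = true := slots_step fs6 20820 1991 22811 s6u8 s6c9 rfl
theorem s6c10 : allBelow (fun k => fs6 (Nat.add (Nat.succ 22811) k)) 1994 = true := by decide +kernel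
theorem s6u10 : ∀ v, 1 ≤ v → v ≤ 24805 → fs6 v = true := slots_step fs6 22811 1994 24805 s6u9 s6c10 rfl
theorem s6c11 : allBelow (fun k => fs6 (Nat.add (Nat.succ 24805) k)) 1904 = true := by decide +kernel
theorem s6u11 : ∀ v, 1 ≤ v → v ≤ 26709 → fs6 v = true := slots_step fs6 24805 1904 26709 s6u10 s6c11 rfl
theorem s6c12 : allBelow (fun k => fs6 (Nat.add (Nat.succ 26709) k)) 1818 = true := by decide +kernel
theorem s6u12 : ∀ v, 1 ≤ v → v ≤ 28527 → fs6 v = true := slots_step fs6 26709 1818 28527 s6u11 s6c12 rfl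
theorem s6c13 : allBelow (fun k => fs6 (Nat.add (Nat.succ 28527) k)) 33 = true := by decide +kernel
theorem s6u13 : ∀ v, 1 ≤ v → v ≤ 28560 → fs6 v = true := slots_step fs6 28527 33 28560 s6u12 s6c13 rfl
theorem s7c0 : allBelow (fun k => fs7 (Nat.add (Nat.succ 0) k)) 2460 = true := by decide +kernel
theorem s7u0 : ∀ v, 1 ≤ v → v ≤ 2460 → fs7 v = true := slots_step fs7 0 2460 2460 (slots_zero fs7) s7c0 rfl
theorem s7c1 : allBelow (fun k => fs7 (Nat.add (Nat.succ 2460) k)) 2060 = true := by decide +kernel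
theorem s7u1 : ∀ v, 1 ≤ v → v ≤ 4520 → fs7 v = true := slots_step fs7 2460 2060 4520 s7u0 s7c1 rfl
theorem s7c2 : allBelow (fun k => fs7 (Nat.add (Nat.succ 4520) k)) 2446 = true := by decide +kernel
theorem s7u2 : ∀ v, 1 ≤ v → v ≤ 6966 → fs7 v = true := slots_step fs7 4520 2446 6966 s7u1 s7c2 rfl
theorem s7c3 : allBelow (fun k => fs7 (Nat.add (Nat.succ 6966) k)) 3844 = true := by decide +kernel
theorem s7u3 : ∀ v, 1 ≤ v → v ≤ 10810 → fs7 v = true := slots_step fs7 6966 3844 10810 s7u2 s7c3 rfl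
theorem s7c4 : allBelow (fun k => fs7 (Nat.add (Nat.succ 10810) k)) 3390 = true := by decide +kernel
theorem s7u4 : ∀ v, 1 ≤ v → v ≤ 14200 → fs7 v = true := slots_step fs7 10810 3390 14200 s7u3 s7c4 rfl
theorem s7c5 : allBelow (fun k => fs7 (Nat.add (Nat.succ 14200) k)) 5212 = true := by decide +kernel
theorem s7u5 : ∀ v, 1 ≤ v → v ≤ 19412 → fs7 v = true := slots_step fs7 14200 5212 19412 s7u4 s7c5 rfl
theorem s7c6 : allBelow (fun k => fs7 (Nat.add (Nat.succ 19412) k)) 5443 = true := by decide +kernel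
theorem s7u6 : ∀ v, 1 ≤ v → v ≤ 24855 → fs7 v = true := slots_step fs7 19412 5443 24855 s7u5 s7c6 rfl
theorem s7c7 : allBelow (fun k => fs7 (Nat.add (Nat.succ 24855) k)) 3705 = true := by decide +kernel
theorem s7u7 : ∀ v, 1 ≤ v → v ≤ 28560 → fs7 v = true := slots_step fs7 24855 3705 28560 s7u6 s7c7 rfl
theorem gz : countBelow gl 0 = 0 := rfl
theorem gk0 : countBelow (fun k => gl (Nat.add 0 k)) 11590 = 6797 := by decide +kernel
theorem gn0 : countBelow gl 11590 = 6797 := countBelow_step gl 0 11590 11590 0 6797 6797 gz gk0 rfl rfl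
theorem gk1 : countBelow (fun k => gl (Nat.add 11590 k)) 11590 = 10742 := by decide +kernel
theorem gn1 : countBelow gl 23180 = 17539 := countBelow_step gl 11590 11590 23180 6797 10742 17539 gn0 gk1 rfl rfl
theorem gk2 : countBelow (fun k => gl (Nat.add 23180 k)) 5380 = 5341 := by decide +kernel
theorem gn2 : countBelow gl 28560 = 22880 := countBelow_step gl 23180 5380 28560 17539 5341 22880 gn1 gk2 rfl rfl

end Cfsg.Agent.Lib.Helper35.Suz22880
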