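import Cfsg.Agent.Lib.Helper35.Suz22880.PData

set_option Elab.async false

namespace Cfsg.Agent.Lib.Helper35.Suz22880

open Cfsg.Agent.Lib.Helper35

theorem rc0 : allBelow (fun k => fr (Nat.add 0 k)) 95 = true := by decide +kernel
theorem ru0 : ∀ i, i < 95 → fr i = true := below_step fr 0 95 95 (below_zero fr) rc0 rfl
theorem rc1 : allBelow (fun k => fr (Nat.add 95 k)) 95 = true := by decide +kernel
theorem ru1 : ∀ i, i < 190 → fr i = true := below_step fr 95 95 190 ru0 rc1 rfl
theorem rc2 : allBelow (fun k => fr (Nat.add 190 k)) 95 = true := by decide +kernel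
theorem ru2 : ∀ i, i < 285 → fr i = true := below_step fr 190 95 285 ru1 rc2 rfl
theorem rc3 : allBelow (fun k => fr (Nat.add 285 k)) 95 = true := by decide +kernel
theorem ru3 : ∀ i, i < 380 → fr i = true := below_step fr 285 95 380 ru2 rc3 rfl
theorem rc4 : allBelow (fun k => fr (Nat.add 380 k)) 95 = true := by decide +kernel
theorem ru4 : ∀ i, i < 475 → fr i = true := below_step fr 380 95 475 ru3 rc4 rfl
theorem rc5 : allBelow (fun k => fr (Nat.add 475 k)) 95 = true := by decide +kernel
theorem ru5 : ∀ i, i < 570 → fr i = true := below_step fr 475 95 570 ru4 rc5 rfl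
theorem rc6 : allBelow (fun k => fr (Nat.add 570 k)) 95 = true := by decide +kernel
theorem ru6 : ∀ i, i < 665 → fr i = true := below_step fr 570 95 665 ru5 rc6 rfl
theorem rc7 : allBelow (fun k => fr (Nat.add 665 k)) 95 = true := by decide +kernel
theorem ru7 : ∀ i, i < 760 → fr i = true := below_step fr 665 95 760 ru6 rc7 rfl
theorem rc8 : allBelow (fun k => fr (Nat.add 760 k)) 95 = true := by decide +kernel
theorem ru8 : ∀ i, i < 855 → fr i = true := below_step fr 760 95 855 ru7 rc8 rfl
theorem rc9 : allBelow (fun k => fr (Nat.add 855 k)) 95 = true := by decide +kernel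
theorem ru9 : ∀ i, i < 950 → fr i = true := below_step fr 855 95 950 ru8 rc9 rfl
theorem rc10 : allBelow (fun k => fr (Nat.add 950 k)) 95 = true := by decide +kernel
theorem ru10 : ∀ i, i < 1045 → fr i = true := below_step fr 950 95 1045 ru9 rc10 rfl
theorem rc11 : allBelow (fun k => fr (Nat.add 1045 k)) 95 = true := by decide +kernel
theorem ru11 : ∀ i, i < 1140 → fr i = true := below_step fr 1045 95 1140 ru10 rc11 rfl
theorem rc12 : allBelow (fun k => fr (Nat.add 1140 k)) 95 = true := by decide +kernel
theorem ru12 : ∀ i, i < 1235 → fr i = true := below_step fr 1140 95 1235 ru11 rc12 rfl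
theorem rc13 : allBelow (fun k => fr (Nat.add 1235 k)) 95 = true := by decide +kernel
theorem ru13 : ∀ i, i < 1330 → fr i = true := below_step fr 1235 95 1330 ru12 rc13 rfl
theorem rc14 : allBelow (fun k => fr (Nat.add 1330 k)) 95 = true := by decide +kernel
theorem ru14 : ∀ i, i < 1425 → fr i = true := below_step fr 1330 95 1425 ru13 rc14 rfl
theorem rc15 : allBelow (fun k => fr (Nat.add 1425 k)) 95 = true := by decide +kernel
theorem ru15 : ∀ i, i < 1520 → fr i = true := below_step fr 1425 95 1520 ru14 rc15 rfl
theorem rc16 : allBelow (fun k => fr (Nat.add 1520 k)) 95 = true := by decide +kernel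
theorem ru16 : ∀ i, i < 1615 → fr i = true := below_step fr 1520 95 1615 ru15 rc16 rfl
theorem rc17 : allBelow (fun k => fr (Nat.add 1615 k)) 95 = true := by decide +kernel
theorem ru17 : ∀ i, i < 1710 → fr i = true := below_step fr 1615 95 1710 ru16 rc17 rfl
theorem rc18 : allBelow (fun k => fr (Nat.add 1710 k)) 95 = true := by decide +kernel
theorem ru18 : ∀ i, i < 1805 → fr i = true := below_step fr 1710 95 1805 ru17 rc18 rfl
theorem rc19 : allBelow (fun k => fr (Nat.add 1805 k)) 95 = true := by decide +kernel
theorem ru19 : ∀ i, i < 1900 → fr i = true := below_step fr 1805 95 1900 ru18 rc19 rfl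
theorem rc20 : allBelow (fun k => fr (Nat.add 1900 k)) 95 = true := by decide +kernel
theorem ru20 : ∀ i, i < 1995 → fr i = true := below_step fr 1900 95 1995 ru19 rc20 rfl
theorem rc21 : allBelow (fun k => fr (Nat.add 1995 k)) 95 = true := by decide +kernel
theorem ru21 : ∀ i, i < 2090 → fr i = true := below_step fr 1995 95 2090 ru20 rc21 rfl
theorem rc22 : allBelow (fun k => fr (Nat.add 2090 k)) 95 = true := by decide +kernel
theorem ru22 : ∀ i, i < 2185 → fr i = true := below_step fr 2090 95 2185 ru21 rc22 rfl
theorem rc23 : allBelow (fun k => fr (Nat.add 2185 k)) 95 = true := by decide +kernel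
theorem ru23 : ∀ i, i < 2280 → fr i = true := below_step fr 2185 95 2280 ru22 rc23 rfl
theorem rc24 : allBelow (fun k => fr (Nat.add 2280 k)) 95 = true := by decide +kernel
theorem ru24 : ∀ i, i < 2375 → fr i = true := below_step fr 2280 95 2375 ru23 rc24 rfl
theorem rc25 : allBelow (fun k => fr (Nat.add 2375 k)) 95 = true := by decide +kernel
theorem ru25 : ∀ i, i < 2470 → fr i = true := below_step fr 2375 95 2470 ru24 rc25 rfl
theorem rc26 : allBelow (fun k => fr (Nat.add 2470 k)) 95 = true := by decide +kernel
theorem ru26 : ∀ i, i < 2565 → fr i = true := below_step fr 2470 95 2565 ru25 rc26 rfl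
theorem rc27 : allBelow (fun k => fr (Nat.add 2565 k)) 95 = true := by decide +kernel
theorem ru27 : ∀ i, i < 2660 → fr i = true := below_step fr 2565 95 2660 ru26 rc27 rfl
theorem rc28 : allBelow (fun k => fr (Nat.add 2660 k)) 95 = true := by decide +kernel
theorem ru28 : ∀ i, i < 2755 → fr i = true := below_step fr 2660 95 2755 ru27 rc28 rfl
theorem rc29 : allBelow (fun k => fr (Nat.add 2755 k)) 95 = true := by decide +kernel
theorem ru29 : ∀ i, i < 2850 → fr i = true := below_step fr 2755 95 2850 ru28 rc29 rfl
theorem rc30 : allBelow (fun k => fr (Nat.add 2850 k)) 95 = true := by decide +kernel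
theorem ru30 : ∀ i, i < 2945 → fr i = true := below_step fr 2850 95 2945 ru29 rc30 rfl
theorem rc31 : allBelow (fun k => fr (Nat.add 2945 k)) 95 = true := by decide +kernel
theorem ru31 : ∀ i, i < 3040 → fr i = true := below_step fr 2945 95 3040 ru30 rc31 rfl
theorem rc32 : allBelow (fun k => fr (Nat.add 3040 k)) 95 = true := by decide +kernel
theorem ru32 : ∀ i, i < 3135 → fr i = true := below_step fr 3040 95 3135 ru31 rc32 rfl
theorem rc33 : allBelow (fun k => fr (Nat.add 3135 k)) 95 = true := by decide +kernel
theorem ru33 : ∀ i, i < 3230 → fr i = true := below_step fr 3135 95 3230 ru32 rc33 rfl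
theorem rc34 : allBelow (fun k => fr (Nat.add 3230 k)) 95 = true := by decide +kernel
theorem ru34 : ∀ i, i < 3325 → fr i = true := below_step fr 3230 95 3325 ru33 rc34 rfl
theorem rc35 : allBelow (fun k => fr (Nat.add 3325 k)) 95 = true := by decide +kernel
theorem ru35 : ∀ i, i < 3420 → fr i = true := below_step fr 3325 95 3420 ru34 rc35 rfl
theorem rc36 : allBelow (fun k => fr (Nat.add 3420 k)) 95 = true := by decide +kernel
theorem ru36 : ∀ i, i < 3515 → fr i = true := below_step fr 3420 95 3515 ru35 rc36 rfl
theorem rc37 : allBelow (fun k => fr (Nat.add 3515 k)) 95 = true := by decide +kernel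
theorem ru37 : ∀ i, i < 3610 → fr i = true := below_step fr 3515 95 3610 ru36 rc37 rfl
theorem rc38 : allBelow (fun k => fr (Nat.add 3610 k)) 95 = true := by decide +kernel
theorem ru38 : ∀ i, i < 3705 → fr i = true := below_step fr 3610 95 3705 ru37 rc38 rfl
theorem rc39 : allBelow (fun k => fr (Nat.add 3705 k)) 95 = true := by decide +kernel
theorem ru39 : ∀ i, i < 3800 → fr i = true := below_step fr 3705 95 3800 ru38 rc39 rfl
theorem rc40 : allBelow (fun k => fr (Nat.add 3800 k)) 95 = true := by decide +kernel
theorem ru40 : ∀ i, i < 3895 → fr i = true := below_step fr 3800 95 3895 ru39 rc40 rfl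
theorem rc41 : allBelow (fun k => fr (Nat.add 3895 k)) 95 = true := by decide +kernel
theorem ru41 : ∀ i, i < 3990 → fr i = true := below_step fr 3895 95 3990 ru40 rc41 rfl
theorem rc42 : allBelow (fun k => fr (Nat.add 3990 k)) 95 = true := by decide +kernel
theorem ru42 : ∀ i, i < 4085 → fr i = true := below_step fr 3990 95 4085 ru41 rc42 rfl
theorem rc43 : allBelow (fun k => fr (Nat.add 4085 k)) 95 = true := by decide +kernel
theorem ru43 : ∀ i, i < 4180 → fr i = true := below_step fr 4085 95 4180 ru42 rc43 rfl
theorem rc44 : allBelow (fun k => fr (Nat.add 4180 k)) 95 = true := by decide +kernel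
theorem ru44 : ∀ i, i < 4275 → fr i = true := below_step fr 4180 95 4275 ru43 rc44 rfl
theorem rc45 : allBelow (fun k => fr (Nat.add 4275 k)) 95 = true := by decide +kernel
theorem ru45 : ∀ i, i < 4370 → fr i = true := below_step fr 4275 95 4370 ru44 rc45 rfl
theorem rc46 : allBelow (fun k => fr (Nat.add 4370 k)) 95 = true := by decide +kernel
theorem ru46 : ∀ i, i < 4465 → fr i = true := below_step fr 4370 95 4465 ru45 rc46 rfl
theorem rc47 : allBelow (fun k => fr (Nat.add 4465 k)) 95 = true := by decide +kernel
theorem ru47 : ∀ i, i < 4560 → fr i = true := below_step fr 4465 95 4560 ru46 rc47 rfl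
theorem rc48 : allBelow (fun k => fr (Nat.add 4560 k)) 95 = true := by decide +kernel
theorem ru48 : ∀ i, i < 4655 → fr i = true := below_step fr 4560 95 4655 ru47 rc48 rfl
theorem rc49 : allBelow (fun k => fr (Nat.add 4655 k)) 95 = true := by decide +kernel
theorem ru49 : ∀ i, i < 4750 → fr i = true := below_step fr 4655 95 4750 ru48 rc49 rfl
theorem rc50 : allBelow (fun k => fr (Nat.add 4750 k)) 95 = true := by decide +kernel
theorem ru50 : ∀ i, i < 4845 → fr i = true := below_step fr 4750 95 4845 ru49 rc50 rfl
theorem rc51 : allBelow (fun k => fr (Nat.add 4845 k)) 95 = true := by decide +kernel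
theorem ru51 : ∀ i, i < 4940 → fr i = true := below_step fr 4845 95 4940 ru50 rc51 rfl
theorem rc52 : allBelow (fun k => fr (Nat.add 4940 k)) 95 = true := by decide +kernel
theorem ru52 : ∀ i, i < 5035 → fr i = true := below_step fr 4940 95 5035 ru51 rc52 rfl
theorem rc53 : allBelow (fun k => fr (Nat.add 5035 k)) 95 = true := by decide +kernel
theorem ru53 : ∀ i, i < 5130 → fr i = true := below_step fr 5035 95 5130 ru52 rc53 rfl
theorem rc54 : allBelow (fun k => fr (Nat.add 5130 k)) 95 = true := by decide +kernel
theorem ru54 : ∀ i, i < 5225 → fr i = true := below_step fr 5130 95 5225 ru53 rc54 rfl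
theorem rc55 : allBelow (fun k => fr (Nat.add 5225 k)) 95 = true := by decide +kernel
theorem ru55 : ∀ i, i < 5320 → fr i = true := below_step fr 5225 95 5320 ru54 rc55 rfl
theorem rc56 : allBelow (fun k => fr (Nat.add 5320 k)) 95 = true := by decide +kernel
theorem ru56 : ∀ i, i < 5415 → fr i = true := below_step fr 5320 95 5415 ru55 rc56 rfl
theorem rc57 : allBelow (fun k => fr (Nat.add 5415 k)) 95 = true := by decide +kernel
theorem ru57 : ∀ i, i < 5510 → fr i = true := below_step fr 5415 95 5510 ru56 rc57 rfl
theorem rc58 : allBelow (fun k => fr (Nat.add 5510 k)) 95 = true := by decide +kernel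
theorem ru58 : ∀ i, i < 5605 → fr i = true := below_step fr 5510 95 5605 ru57 rc58 rfl
theorem rc59 : allBelow (fun k => fr (Nat.add 5605 k)) 95 = true := by decide +kernel
theorem ru59 : ∀ i, i < 5700 → fr i = true := below_step fr 5605 95 5700 ru58 rc59 rfl
theorem rc60 : allBelow (fun k => fr (Nat.add 5700 k)) 95 = true := by decide +kernel
theorem ru60 : ∀ i, i < 5795 → fr i = true := below_step fr 5700 95 5795 ru59 rc60 rfl
theorem rc61 : allBelow (fun k => fr (Nat.add 5795 k)) 95 = true := by decide +kernel
theorem ru61 : ∀ i, i < 5890 → fr i = true := below_step fr 5795 95 5890 ru60 rc61 rfl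
theorem rc62 : allBelow (fun k => fr (Nat.add 5890 k)) 95 = true := by decide +kernel
theorem ru62 : ∀ i, i < 5985 → fr i = true := below_step fr 5890 95 5985 ru61 rc62 rfl
theorem rc63 : allBelow (fun k => fr (Nat.add 5985 k)) 95 = true := by decide +kernel
theorem ru63 : ∀ i, i < 6080 → fr i = true := below_step fr 5985 95 6080 ru62 rc63 rfl
theorem rc64 : allBelow (fun k => fr (Nat.add 6080 k)) 95 = true := by decide +kernel
theorem ru64 : ∀ i, i < 6175 → fr i = true := below_step fr 6080 95 6175 ru63 rc64 rfl
theorem rc65 : allBelow (fun k => fr (Nat.add 6175 k)) 95 = true := by decide +kernel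
theorem ru65 : ∀ i, i < 6270 → fr i = true := below_step fr 6175 95 6270 ru64 rc65 rfl
theorem rc66 : allBelow (fun k => fr (Nat.add 6270 k)) 95 = true := by decide +kernel
theorem ru66 : ∀ i, i < 6365 → fr i = true := below_step fr 6270 95 6365 ru65 rc66 rfl
theorem rc67 : allBelow (fun k => fr (Nat.add 6365 k)) 95 = true := by decide +kernel
theorem ru67 : ∀ i, i < 6460 → fr i = true := below_step fr 6365 95 6460 ru66 rc67 rfl
theorem rc68 : allBelow (fun k => fr (Nat.add 6460 k)) 95 = true := by decide +kernel
theorem ru68 : ∀ i, i < 6555 → fr i = true := below_step fr 6460 95 6555 ru67 rc68 rfl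
theorem rc69 : allBelow (fun k => fr (Nat.add 6555 k)) 95 = true := by decide +kernel
theorem ru69 : ∀ i, i < 6650 → fr i = true := below_step fr 6555 95 6650 ru68 rc69 rfl
theorem rc70 : allBelow (fun k => fr (Nat.add 6650 k)) 95 = true := by decide +kernel
theorem ru70 : ∀ i, i < 6745 → fr i = true := below_step fr 6650 95 6745 ru69 rc70 rfl
theorem rc71 : allBelow (fun k => fr (Nat.add 6745 k)) 95 = true := by decide +kernel
theorem ru71 : ∀ i, i < 6840 → fr i = true := below_step fr 6745 95 6840 ru70 rc71 rfl
theorem rc72 : allBelow (fun k => fr (Nat.add 6840 k)) 95 = true := by decide +kernel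
theorem ru72 : ∀ i, i < 6935 → fr i = true := below_step fr 6840 95 6935 ru71 rc72 rfl
theorem rc73 : allBelow (fun k => fr (Nat.add 6935 k)) 95 = true := by decide +kernel
theorem ru73 : ∀ i, i < 7030 → fr i = true := below_step fr 6935 95 7030 ru72 rc73 rfl
theorem rc74 : allBelow (fun k => fr (Nat.add 7030 k)) 95 = true := by decide +kernel
theorem ru74 : ∀ i, i < 7125 → fr i = true := below_step fr 7030 95 7125 ru73 rc74 rfl
theorem rc75 : allBelow (fun k => fr (Nat.add 7125 k)) 95 = true := by decide +kernel
theorem ru75 : ∀ i, i < 7220 → fr i = true := below_step fr 7125 95 7220 ru74 rc75 rfl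
theorem rc76 : allBelow (fun k => fr (Nat.add 7220 k)) 95 = true := by decide +kernel
theorem ru76 : ∀ i, i < 7315 → fr i = true := below_step fr 7220 95 7315 ru75 rc76 rfl
theorem rc77 : allBelow (fun k => fr (Nat.add 7315 k)) 95 = true := by decide +kernel
theorem ru77 : ∀ i, i < 7410 → fr i = true := below_step fr 7315 95 7410 ru76 rc77 rfl
theorem rc78 : allBelow (fun k => fr (Nat.add 7410 k)) 95 = true := by decide +kernel
theorem ru78 : ∀ i, i < 7505 → fr i = true := below_step fr 7410 95 7505 ru77 rc78 rfl
theorem rc79 : allBelow (fun k => fr (Nat.add 7505 k)) 95 = true := by decide +kernel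
theorem ru79 : ∀ i, i < 7600 → fr i = true := below_step fr 7505 95 7600 ru78 rc79 rfl
theorem rc80 : allBelow (fun k => fr (Nat.add 7600 k)) 95 = true := by decide +kernel
theorem ru80 : ∀ i, i < 7695 → fr i = true := below_step fr 7600 95 7695 ru79 rc80 rfl
theorem rc81 : allBelow (fun k => fr (Nat.add 7695 k)) 95 = true := by decide +kernel
theorem ru81 : ∀ i, i < 7790 → fr i = true := below_step fr 7695 95 7790 ru80 rc81 rfl
theorem rc82 : allBelow (fun k => fr (Nat.add 7790 k)) 95 = true := by decide +kernel
theorem ru82 : ∀ i, i < 7885 → fr i = true := below_step fr 7790 95 7885 ru81 rc82 rfl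
theorem rc83 : allBelow (fun k => fr (Nat.add 7885 k)) 95 = true := by decide +kernel
theorem ru83 : ∀ i, i < 7980 → fr i = true := below_step fr 7885 95 7980 ru82 rc83 rfl
theorem rc84 : allBelow (fun k => fr (Nat.add 7980 k)) 95 = true := by decide +kernel
theorem ru84 : ∀ i, i < 8075 → fr i = true := below_step fr 7980 95 8075 ru83 rc84 rfl
theorem rc85 : allBelow (fun k => fr (Nat.add 8075 k)) 95 = true := by decide +kernel
theorem ru85 : ∀ i, i < 8170 → fr i = true := below_step fr 8075 95 8170 ru84 rc85 rfl
theorem rc86 : allBelow (fun k => fr (Nat.add 8170 k)) 95 = true := by decide +kernel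
theorem ru86 : ∀ i, i < 8265 → fr i = true := below_step fr 8170 95 8265 ru85 rc86 rfl
theorem rc87 : allBelow (fun k => fr (Nat.add 8265 k)) 95 = true := by decide +kernel
theorem ru87 : ∀ i, i < 8360 → fr i = true := below_step fr 8265 95 8360 ru86 rc87 rfl
theorem rc88 : allBelow (fun k => fr (Nat.add 8360 k)) 95 = true := by decide +kernel
theorem ru88 : ∀ i, i < 8455 → fr i = true := below_step fr 8360 95 8455 ru87 rc88 rfl
theorem rc89 : allBelow (fun k => fr (Nat.add 8455 k)) 95 = true := by decide +kernel
theorem ru89 : ∀ i, i < 8550 → fr i = true := below_step fr 8455 95 8550 ru88 rc89 rfl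
theorem rc90 : allBelow (fun k => fr (Nat.add 8550 k)) 95 = true := by decide +kernel
theorem ru90 : ∀ i, i < 8645 → fr i = true := below_step fr 8550 95 8645 ru89 rc90 rfl
theorem rc91 : allBelow (fun k => fr (Nat.add 8645 k)) 95 = true := by decide +kernel
theorem ru91 : ∀ i, i < 8740 → fr i = true := below_step fr 8645 95 8740 ru90 rc91 rfl
theorem rc92 : allBelow (fun k => fr (Nat.add 8740 k)) 95 = true := by decide +kernel
theorem ru92 : ∀ i, i < 8835 → fr i = true := below_step fr 8740 95 8835 ru91 rc92 rfl
theorem rc93 : allBelow (fun k => fr (Nat.add 8835 k)) 95 = true := by decide +kernel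
theorem ru93 : ∀ i, i < 8930 → fr i = true := below_step fr 8835 95 8930 ru92 rc93 rfl
theorem rc94 : allBelow (fun k => fr (Nat.add 8930 k)) 95 = true := by decide +kernel
theorem ru94 : ∀ i, i < 9025 → fr i = true := below_step fr 8930 95 9025 ru93 rc94 rfl
theorem rc95 : allBelow (fun k => fr (Nat.add 9025 k)) 95 = true := by decide +kernel
theorem ru95 : ∀ i, i < 9120 → fr i = true := below_step fr 9025 95 9120 ru94 rc95 rfl
theorem rc96 : allBelow (fun k => fr (Nat.add 9120 k)) 95 = true := by decide +kernel
theorem ru96 : ∀ i, i < 9215 → fr i = true := below_step fr 9120 95 9215 ru95 rc96 rfl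
theorem rc97 : allBelow (fun k => fr (Nat.add 9215 k)) 95 = true := by decide +kernel
theorem ru97 : ∀ i, i < 9310 → fr i = true := below_step fr 9215 95 9310 ru96 rc97 rfl
theorem rc98 : allBelow (fun k => fr (Nat.add 9310 k)) 95 = true := by decide +kernel
theorem ru98 : ∀ i, i < 9405 → fr i = true := below_step fr 9310 95 9405 ru97 rc98 rfl
theorem rc99 : allBelow (fun k => fr (Nat.add 9405 k)) 95 = true := by decide +kernel
theorem ru99 : ∀ i, i < 9500 → fr i = true := below_step fr 9405 95 9500 ru98 rc99 rfl
theorem rc100 : allBelow (fun k => fr (Nat.add 9500 k)) 95 = true := by decide +kernel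
theorem ru100 : ∀ i, i < 9595 → fr i = true := below_step fr 9500 95 9595 ru99 rc100 rfl
theorem rc101 : allBelow (fun k => fr (Nat.add 9595 k)) 95 = true := by decide +kernel
theorem ru101 : ∀ i, i < 9690 → fr i = true := below_step fr 9595 95 9690 ru100 rc101 rfl
theorem rc102 : allBelow (fun k => fr (Nat.add 9690 k)) 95 = true := by decide +kernel
theorem ru102 : ∀ i, i < 9785 → fr i = true := below_step fr 9690 95 9785 ru101 rc102 rfl
theorem rc103 : allBelow (fun k => fr (Nat.add 9785 k)) 95 = true := by decide +kernel
theorem ru103 : ∀ i, i < 9880 → fr i = true := below_step fr 9785 95 9880 ru102 rc103 rfl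
theorem rc104 : allBelow (fun k => fr (Nat.add 9880 k)) 95 = true := by decide +kernel
theorem ru104 : ∀ i, i < 9975 → fr i = true := below_step fr 9880 95 9975 ru103 rc104 rfl
theorem rc105 : allBelow (fun k => fr (Nat.add 9975 k)) 95 = true := by decide +kernel
theorem ru105 : ∀ i, i < 10070 → fr i = true := below_step fr 9975 95 10070 ru104 rc105 rfl
theorem rc106 : allBelow (fun k => fr (Nat.add 10070 k)) 95 = true := by decide +kernel
theorem ru106 : ∀ i, i < 10165 → fr i = true := below_step fr 10070 95 10165 ru105 rc106 rfl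
theorem rc107 : allBelow (fun k => fr (Nat.add 10165 k)) 95 = true := by decide +kernel
theorem ru107 : ∀ i, i < 10260 → fr i = true := below_step fr 10165 95 10260 ru106 rc107 rfl
theorem rc108 : allBelow (fun k => fr (Nat.add 10260 k)) 95 = true := by decide +kernel
theorem ru108 : ∀ i, i < 10355 → fr i = true := below_step fr 10260 95 10355 ru107 rc108 rfl
theorem rc109 : allBelow (fun k => fr (Nat.add 10355 k)) 95 = true := by decide +kernel
theorem ru109 : ∀ i, i < 10450 → fr i = true := below_step fr 10355 95 10450 ru108 rc109 rfl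
theorem rc110 : allBelow (fun k => fr (Nat.add 10450 k)) 95 = true := by decide +kernel
theorem ru110 : ∀ i, i < 10545 → fr i = true := below_step fr 10450 95 10545 ru109 rc110 rfl
theorem rc111 : allBelow (fun k => fr (Nat.add 10545 k)) 95 = true := by decide +kernel
theorem ru111 : ∀ i, i < 10640 → fr i = true := below_step fr 10545 95 10640 ru110 rc111 rfl
theorem rc112 : allBelow (fun k => fr (Nat.add 10640 k)) 95 = true := by decide +kernel
theorem ru112 : ∀ i, i < 10735 → fr i = true := below_step fr 10640 95 10735 ru111 rc112 rfl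
theorem rc113 : allBelow (fun k => fr (Nat.add 10735 k)) 95 = true := by decide +kernel
theorem ru113 : ∀ i, i < 10830 → fr i = true := below_step fr 10735 95 10830 ru112 rc113 rfl
theorem rc114 : allBelow (fun k => fr (Nat.add 10830 k)) 95 = true := by decide +kernel
theorem ru114 : ∀ i, i < 10925 → fr i = true := below_step fr 10830 95 10925 ru113 rc114 rfl
theorem rc115 : allBelow (fun k => fr (Nat.add 10925 k)) 95 = true := by decide +kernel
theorem ru115 : ∀ i, i < 11020 → fr i = true := below_step fr 10925 95 11020 ru114 rc115 rfl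
theorem rc116 : allBelow (fun k => fr (Nat.add 11020 k)) 95 = true := by decide +kernel
theorem ru116 : ∀ i, i < 11115 → fr i = true := below_step fr 11020 95 11115 ru115 rc116 rfl
theorem rc117 : allBelow (fun k => fr (Nat.add 11115 k)) 95 = true := by decide +kernel
theorem ru117 : ∀ i, i < 11210 → fr i = true := below_step fr 11115 95 11210 ru116 rc117 rfl
theorem rc118 : allBelow (fun k => fr (Nat.add 11210 k)) 95 = true := by decide +kernel
theorem ru118 : ∀ i, i < 11305 → fr i = true := below_step fr 11210 95 11305 ru117 rc118 rfl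
theorem rc119 : allBelow (fun k => fr (Nat.add 11305 k)) 95 = true := by decide +kernel
theorem ru119 : ∀ i, i < 11400 → fr i = true := below_step fr 11305 95 11400 ru118 rc119 rfl
theorem rc120 : allBelow (fun k => fr (Nat.add 11400 k)) 95 = true := by decide +kernel
theorem ru120 : ∀ i, i < 11495 → fr i = true := below_step fr 11400 95 11495 ru119 rc120 rfl
theorem rc121 : allBelow (fun k => fr (Nat.add 11495 k)) 95 = true := by decide +kernel
theorem ru121 : ∀ i, i < 11590 → fr i = true := below_step fr 11495 95 11590 ru120 rc121 rfl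
theorem rc122 : allBelow (fun k => fr (Nat.add 11590 k)) 95 = true := by decide +kernel
theorem ru122 : ∀ i, i < 11685 → fr i = true := below_step fr 11590 95 11685 ru121 rc122 rfl
theorem rc123 : allBelow (fun k => fr (Nat.add 11685 k)) 95 = true := by decide +kernel
theorem ru123 : ∀ i, i < 11780 → fr i = true := below_step fr 11685 95 11780 ru122 rc123 rfl
theorem rc124 : allBelow (fun k => fr (Nat.add 11780 k)) 95 = true := by decide +kernel
theorem ru124 : ∀ i, i < 11875 → fr i = true := below_step fr 11780 95 11875 ru123 rc124 rfl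
theorem rc125 : allBelow (fun k => fr (Nat.add 11875 k)) 95 = true := by decide +kernel
theorem ru125 : ∀ i, i < 11970 → fr i = true := below_step fr 11875 95 11970 ru124 rc125 rfl
theorem rc126 : allBelow (fun k => fr (Nat.add 11970 k)) 95 = true := by decide +kernel
theorem ru126 : ∀ i, i < 12065 → fr i = true := below_step fr 11970 95 12065 ru125 rc126 rfl
theorem rc127 : allBelow (fun k => fr (Nat.add 12065 k)) 95 = true := by decide +kernel
theorem ru127 : ∀ i, i < 12160 → fr i = true := below_step fr 12065 95 12160 ru126 rc127 rfl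
theorem rc128 : allBelow (fun k => fr (Nat.add 12160 k)) 95 = true := by decide +kernel
theorem ru128 : ∀ i, i < 12255 → fr i = true := below_step fr 12160 95 12255 ru127 rc128 rfl
theorem rc129 : allBelow (fun k => fr (Nat.add 12255 k)) 95 = true := by decide +kernel
theorem ru129 : ∀ i, i < 12350 → fr i = true := below_step fr 12255 95 12350 ru128 rc129 rfl
theorem rc130 : allBelow (fun k => fr (Nat.add 12350 k)) 95 = true := by decide +kernel
theorem ru130 : ∀ i, i < 12445 → fr i = true := below_step fr 12350 95 12445 ru129 rc130 rfl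
theorem rc131 : allBelow (fun k => fr (Nat.add 12445 k)) 95 = true := by decide +kernel
theorem ru131 : ∀ i, i < 12540 → fr i = true := below_step fr 12445 95 12540 ru130 rc131 rfl
theorem rc132 : allBelow (fun k => fr (Nat.add 12540 k)) 95 = true := by decide +kernel
theorem ru132 : ∀ i, i < 12635 → fr i = true := below_step fr 12540 95 12635 ru131 rc132 rfl
theorem rc133 : allBelow (fun k => fr (Nat.add 12635 k)) 95 = true := by decide +kernel
theorem ru133 : ∀ i, i < 12730 → fr i = true := below_step fr 12635 95 12730 ru132 rc133 rfl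
theorem rc134 : allBelow (fun k => fr (Nat.add 12730 k)) 95 = true := by decide +kernel
theorem ru134 : ∀ i, i < 12825 → fr i = true := below_step fr 12730 95 12825 ru133 rc134 rfl
theorem rc135 : allBelow (fun k => fr (Nat.add 12825 k)) 95 = true := by decide +kernel
theorem ru135 : ∀ i, i < 12920 → fr i = true := below_step fr 12825 95 12920 ru134 rc135 rfl
theorem rc136 : allBelow (fun k => fr (Nat.add 12920 k)) 95 = true := by decide +kernel
theorem ru136 : ∀ i, i < 13015 → fr i = true := below_step fr 12920 95 13015 ru135 rc136 rfl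
theorem rc137 : allBelow (fun k => fr (Nat.add 13015 k)) 95 = true := by decide +kernel
theorem ru137 : ∀ i, i < 13110 → fr i = true := below_step fr 13015 95 13110 ru136 rc137 rfl
theorem rc138 : allBelow (fun k => fr (Nat.add 13110 k)) 95 = true := by decide +kernel
theorem ru138 : ∀ i, i < 13205 → fr i = true := below_step fr 13110 95 13205 ru137 rc138 rfl
theorem rc139 : allBelow (fun k => fr (Nat.add 13205 k)) 95 = true := by decide +kernel
theorem ru139 : ∀ i, i < 13300 → fr i = true := below_step fr 13205 95 13300 ru138 rc139 rfl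
theorem rc140 : allBelow (fun k => fr (Nat.add 13300 k)) 95 = true := by decide +kernel
theorem ru140 : ∀ i, i < 13395 → fr i = true := below_step fr 13300 95 13395 ru139 rc140 rfl
theorem rc141 : allBelow (fun k => fr (Nat.add 13395 k)) 95 = true := by decide +kernel
theorem ru141 : ∀ i, i < 13490 → fr i = true := below_step fr 13395 95 13490 ru140 rc141 rfl
theorem rc142 : allBelow (fun k => fr (Nat.add 13490 k)) 95 = true := by decide +kernel
theorem ru142 : ∀ i, i < 13585 → fr i = true := below_step fr 13490 95 13585 ru141 rc142 rfl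
theorem rc143 : allBelow (fun k => fr (Nat.add 13585 k)) 95 = true := by decide +kernel
theorem ru143 : ∀ i, i < 13680 → fr i = true := below_step fr 13585 95 13680 ru142 rc143 rfl
theorem rc144 : allBelow (fun k => fr (Nat.add 13680 k)) 95 = true := by decide +kernel
theorem ru144 : ∀ i, i < 13775 → fr i = true := below_step fr 13680 95 13775 ru143 rc144 rfl
theorem rc145 : allBelow (fun k => fr (Nat.add 13775 k)) 95 = true := by decide +kernel
theorem ru145 : ∀ i, i < 13870 → fr i = true := below_step fr 13775 95 13870 ru144 rc145 rfl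
theorem rc146 : allBelow (fun k => fr (Nat.add 13870 k)) 95 = true := by decide +kernel
theorem ru146 : ∀ i, i < 13965 → fr i = true := below_step fr 13870 95 13965 ru145 rc146 rfl
theorem rc147 : allBelow (fun k => fr (Nat.add 13965 k)) 95 = true := by decide +kernel
theorem ru147 : ∀ i, i < 14060 → fr i = true := below_step fr 13965 95 14060 ru146 rc147 rfl
theorem rc148 : allBelow (fun k => fr (Nat.add 14060 k)) 95 = true := by decide +kernel
theorem ru148 : ∀ i, i < 14155 → fr i = true := below_step fr 14060 95 14155 ru147 rc148 rfl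
theorem rc149 : allBelow (fun k => fr (Nat.add 14155 k)) 95 = true := by decide +kernel
theorem ru149 : ∀ i, i < 14250 → fr i = true := below_step fr 14155 95 14250 ru148 rc149 rfl
theorem rc150 : allBelow (fun k => fr (Nat.add 14250 k)) 95 = true := by decide +kernel
theorem ru150 : ∀ i, i < 14345 → fr i = true := below_step fr 14250 95 14345 ru149 rc150 rfl
theorem rc151 : allBelow (fun k => fr (Nat.add 14345 k)) 95 = true := by decide +kernel
theorem ru151 : ∀ i, i < 14440 → fr i = true := below_step fr 14345 95 14440 ru150 rc151 rfl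
theorem rc152 : allBelow (fun k => fr (Nat.add 14440 k)) 95 = true := by decide +kernel
theorem ru152 : ∀ i, i < 14535 → fr i = true := below_step fr 14440 95 14535 ru151 rc152 rfl
theorem rc153 : allBelow (fun k => fr (Nat.add 14535 k)) 95 = true := by decide +kernel
theorem ru153 : ∀ i, i < 14630 → fr i = true := below_step fr 14535 95 14630 ru152 rc153 rfl
theorem rc154 : allBelow (fun k => fr (Nat.add 14630 k)) 95 = true := by decide +kernel
theorem ru154 : ∀ i, i < 14725 → fr i = true := below_step fr 14630 95 14725 ru153 rc154 rfl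
theorem rc155 : allBelow (fun k => fr (Nat.add 14725 k)) 95 = true := by decide +kernel
theorem ru155 : ∀ i, i < 14820 → fr i = true := below_step fr 14725 95 14820 ru154 rc155 rfl
theorem rc156 : allBelow (fun k => fr (Nat.add 14820 k)) 95 = true := by decide +kernel
theorem ru156 : ∀ i, i < 14915 → fr i = true := below_step fr 14820 95 14915 ru155 rc156 rfl
theorem rc157 : allBelow (fun k => fr (Nat.add 14915 k)) 95 = true := by decide +kernel
theorem ru157 : ∀ i, i < 15010 → fr i = true := below_step fr 14915 95 15010 ru156 rc157 rfl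
theorem rc158 : allBelow (fun k => fr (Nat.add 15010 k)) 95 = true := by decide +kernel
theorem ru158 : ∀ i, i < 15105 → fr i = true := below_step fr 15010 95 15105 ru157 rc158 rfl
theorem rc159 : allBelow (fun k => fr (Nat.add 15105 k)) 95 = true := by decide +kernel
theorem ru159 : ∀ i, i < 15200 → fr i = true := below_step fr 15105 95 15200 ru158 rc159 rfl
theorem rc160 : allBelow (fun k => fr (Nat.add 15200 k)) 95 = true := by decide +kernel
theorem ru160 : ∀ i, i < 15295 → fr i = true := below_step fr 15200 95 15295 ru159 rc160 rfl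
theorem rc161 : allBelow (fun k => fr (Nat.add 15295 k)) 95 = true := by decide +kernel
theorem ru161 : ∀ i, i < 15390 → fr i = true := below_step fr 15295 95 15390 ru160 rc161 rfl
theorem rc162 : allBelow (fun k => fr (Nat.add 15390 k)) 95 = true := by decide +kernel
theorem ru162 : ∀ i, i < 15485 → fr i = true := below_step fr 15390 95 15485 ru161 rc162 rfl
theorem rc163 : allBelow (fun k => fr (Nat.add 15485 k)) 95 = true := by decide +kernel
theorem ru163 : ∀ i, i < 15580 → fr i = true := below_step fr 15485 95 15580 ru162 rc163 rfl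
theorem rc164 : allBelow (fun k => fr (Nat.add 15580 k)) 95 = true := by decide +kernel
theorem ru164 : ∀ i, i < 15675 → fr i = true := below_step fr 15580 95 15675 ru163 rc164 rfl
theorem rc165 : allBelow (fun k => fr (Nat.add 15675 k)) 95 = true := by decide +kernel
theorem ru165 : ∀ i, i < 15770 → fr i = true := below_step fr 15675 95 15770 ru164 rc165 rfl
theorem rc166 : allBelow (fun k => fr (Nat.add 15770 k)) 95 = true := by decide +kernel
theorem ru166 : ∀ i, i < 15865 → fr i = true := below_step fr 15770 95 15865 ru165 rc166 rfl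
theorem rc167 : allBelow (fun k => fr (Nat.add 15865 k)) 95 = true := by decide +kernel
theorem ru167 : ∀ i, i < 15960 → fr i = true := below_step fr 15865 95 15960 ru166 rc167 rfl
theorem rc168 : allBelow (fun k => fr (Nat.add 15960 k)) 95 = true := by decide +kernel
theorem ru168 : ∀ i, i < 16055 → fr i = true := below_step fr 15960 95 16055 ru167 rc168 rfl
theorem rc169 : allBelow (fun k => fr (Nat.add 16055 k)) 95 = true := by decide +kernel
theorem ru169 : ∀ i, i < 16150 → fr i = true := below_step fr 16055 95 16150 ru168 rc169 rfl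
theorem rc170 : allBelow (fun k => fr (Nat.add 16150 k)) 95 = true := by decide +kernel
theorem ru170 : ∀ i, i < 16245 → fr i = true := below_step fr 16150 95 16245 ru169 rc170 rfl
theorem rc171 : allBelow (fun k => fr (Nat.add 16245 k)) 95 = true := by decide +kernel
theorem ru171 : ∀ i, i < 16340 → fr i = true := below_step fr 16245 95 16340 ru170 rc171 rfl
theorem rc172 : allBelow (fun k => fr (Nat.add 16340 k)) 95 = true := by decide +kernel
theorem ru172 : ∀ i, i < 16435 → fr i = true := below_step fr 16340 95 16435 ru171 rc172 rfl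
theorem rc173 : allBelow (fun k => fr (Nat.add 16435 k)) 95 = true := by decide +kernel
theorem ru173 : ∀ i, i < 16530 → fr i = true := below_step fr 16435 95 16530 ru172 rc173 rfl
theorem rc174 : allBelow (fun k => fr (Nat.add 16530 k)) 95 = true := by decide +kernel
theorem ru174 : ∀ i, i < 16625 → fr i = true := below_step fr 16530 95 16625 ru173 rc174 rfl

end Cfsg.Agent.Lib.Helper35.Suz22880
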