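import Cfsg.Agent.Lib.Helper35.Suz22880.PChk0

set_option Elab.async false

namespace Cfsg.Agent.Lib.Helper35.Suz22880

open Cfsg.Agent.Lib.Helper35

theorem rc175 : allBelow (fun k => fr (Nat.add 16625 k)) 95 = true := by decide +kernel
theorem ru175 : ∀ i, i < 16720 → fr i = true := below_step fr 16625 95 16720 ru174 rc175 rfl
theorem rc176 : allBelow (fun k => fr (Nat.add 16720 k)) 95 = true := by decide +kernel
theorem ru176 : ∀ i, i < 16815 → fr i = true := below_step fr 16720 95 16815 ru175 rc176 rfl
theorem rc177 : allBelow (fun k => fr (Nat.add 16815 k)) 95 = true := by decide +kernel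
theorem ru177 : ∀ i, i < 16910 → fr i = true := below_step fr 16815 95 16910 ru176 rc177 rfl
theorem rc178 : allBelow (fun k => fr (Nat.add 16910 k)) 95 = true := by decide +kernel
theorem ru178 : ∀ i, i < 17005 → fr i = true := below_step fr 16910 95 17005 ru177 rc178 rfl
theorem rc179 : allBelow (fun k => fr (Nat.add 17005 k)) 95 = true := by decide +kernel
theorem ru179 : ∀ i, i < 17100 → fr i = true := below_step fr 17005 95 17100 ru178 rc179 rfl
theorem rc180 : allBelow (fun k => fr (Nat.add 17100 k)) 95 = true := by decide +kernel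
theorem ru180 : ∀ i, i < 17195 → fr i = true := below_step fr 17100 95 17195 ru179 rc180 rfl
theorem rc181 : allBelow (fun k => fr (Nat.add 17195 k)) 95 = true := by decide +kernel
theorem ru181 : ∀ i, i < 17290 → fr i = true := below_step fr 17195 95 17290 ru180 rc181 rfl
theorem rc182 : allBelow (fun k => fr (Nat.add 17290 k)) 95 = true := by decide +kernel
theorem ru182 : ∀ i, i < 17385 → fr i = true := below_step fr 17290 95 17385 ru181 rc182 rfl
theorem rc183 : allBelow (fun k => fr (Nat.add 17385 k)) 95 = true := by decide +kernel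
theorem ru183 : ∀ i, i < 17480 → fr i = true := below_step fr 17385 95 17480 ru182 rc183 rfl
theorem rc184 : allBelow (fun k => fr (Nat.add 17480 k)) 95 = true := by decide +kernel
theorem ru184 : ∀ i, i < 17575 → fr i = true := below_step fr 17480 95 17575 ru183 rc184 rfl
theorem rc185 : allBelow (fun k => fr (Nat.add 17575 k)) 95 = true := by decide +kernel
theorem ru185 : ∀ i, i < 17670 → fr i = true := below_step fr 17575 95 17670 ru184 rc185 rfl
theorem rc186 : allBelow (fun k => fr (Nat.add 17670 k)) 95 = true := by decide +kernel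
theorem ru186 : ∀ i, i < 17765 → fr i = true := below_step fr 17670 95 17765 ru185 rc186 rfl
theorem rc187 : allBelow (fun k => fr (Nat.add 17765 k)) 95 = true := by decide +kernel
theorem ru187 : ∀ i, i < 17860 → fr i = true := below_step fr 17765 95 17860 ru186 rc187 rfl
theorem rc188 : allBelow (fun k => fr (Nat.add 17860 k)) 95 = true := by decide +kernel
theorem ru188 : ∀ i, i < 17955 → fr i = true := below_step fr 17860 95 17955 ru187 rc188 rfl
theorem rc189 : allBelow (fun k => fr (Nat.add 17955 k)) 95 = true := by decide +kernel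
theorem ru189 : ∀ i, i < 18050 → fr i = true := below_step fr 17955 95 18050 ru188 rc189 rfl
theorem rc190 : allBelow (fun k => fr (Nat.add 18050 k)) 95 = true := by decide +kernel
theorem ru190 : ∀ i, i < 18145 → fr i = true := below_step fr 18050 95 18145 ru189 rc190 rfl
theorem rc191 : allBelow (fun k => fr (Nat.add 18145 k)) 95 = true := by decide +kernel
theorem ru191 : ∀ i, i < 18240 → fr i = true := below_step fr 18145 95 18240 ru190 rc191 rfl
theorem rc192 : allBelow (fun k => fr (Nat.add 18240 k)) 95 = true := by decide +kernel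
theorem ru192 : ∀ i, i < 18335 → fr i = true := below_step fr 18240 95 18335 ru191 rc192 rfl
theorem rc193 : allBelow (fun k => fr (Nat.add 18335 k)) 95 = true := by decide +kernel
theorem ru193 : ∀ i, i < 18430 → fr i = true := below_step fr 18335 95 18430 ru192 rc193 rfl
theorem rc194 : allBelow (fun k => fr (Nat.add 18430 k)) 95 = true := by decide +kernel
theorem ru194 : ∀ i, i < 18525 → fr i = true := below_step fr 18430 95 18525 ru193 rc194 rfl
theorem rc195 : allBelow (fun k => fr (Nat.add 18525 k)) 95 = true := by decide +kernel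
theorem ru195 : ∀ i, i < 18620 → fr i = true := below_step fr 18525 95 18620 ru194 rc195 rfl
theorem rc196 : allBelow (fun k => fr (Nat.add 18620 k)) 95 = true := by decide +kernel
theorem ru196 : ∀ i, i < 18715 → fr i = true := below_step fr 18620 95 18715 ru195 rc196 rfl
theorem rc197 : allBelow (fun k => fr (Nat.add 18715 k)) 95 = true := by decide +kernel
theorem ru197 : ∀ i, i < 18810 → fr i = true := below_step fr 18715 95 18810 ru196 rc197 rfl
theorem rc198 : allBelow (fun k => fr (Nat.add 18810 k)) 95 = true := by decide +kernel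
theorem ru198 : ∀ i, i < 18905 → fr i = true := below_step fr 18810 95 18905 ru197 rc198 rfl
theorem rc199 : allBelow (fun k => fr (Nat.add 18905 k)) 95 = true := by decide +kernel
theorem ru199 : ∀ i, i < 19000 → fr i = true := below_step fr 18905 95 19000 ru198 rc199 rfl
theorem rc200 : allBelow (fun k => fr (Nat.add 19000 k)) 95 = true := by decide +kernel
theorem ru200 : ∀ i, i < 19095 → fr i = true := below_step fr 19000 95 19095 ru199 rc200 rfl
theorem rc201 : allBelow (fun k => fr (Nat.add 19095 k)) 95 = true := by decide +kernel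
theorem ru201 : ∀ i, i < 19190 → fr i = true := below_step fr 19095 95 19190 ru200 rc201 rfl
theorem rc202 : allBelow (fun k => fr (Nat.add 19190 k)) 95 = true := by decide +kernel
theorem ru202 : ∀ i, i < 19285 → fr i = true := below_step fr 19190 95 19285 ru201 rc202 rfl
theorem rc203 : allBelow (fun k => fr (Nat.add 19285 k)) 95 = true := by decide +kernel
theorem ru203 : ∀ i, i < 19380 → fr i = true := below_step fr 19285 95 19380 ru202 rc203 rfl
theorem rc204 : allBelow (fun k => fr (Nat.add 19380 k)) 95 = true := by decide +kernel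
theorem ru204 : ∀ i, i < 19475 → fr i = true := below_step fr 19380 95 19475 ru203 rc204 rfl
theorem rc205 : allBelow (fun k => fr (Nat.add 19475 k)) 95 = true := by decide +kernel
theorem ru205 : ∀ i, i < 19570 → fr i = true := below_step fr 19475 95 19570 ru204 rc205 rfl
theorem rc206 : allBelow (fun k => fr (Nat.add 19570 k)) 95 = true := by decide +kernel
theorem ru206 : ∀ i, i < 19665 → fr i = true := below_step fr 19570 95 19665 ru205 rc206 rfl
theorem rc207 : allBelow (fun k => fr (Nat.add 19665 k)) 95 = true := by decide +kernel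
theorem ru207 : ∀ i, i < 19760 → fr i = true := below_step fr 19665 95 19760 ru206 rc207 rfl
theorem rc208 : allBelow (fun k => fr (Nat.add 19760 k)) 95 = true := by decide +kernel
theorem ru208 : ∀ i, i < 19855 → fr i = true := below_step fr 19760 95 19855 ru207 rc208 rfl
theorem rc209 : allBelow (fun k => fr (Nat.add 19855 k)) 95 = true := by decide +kernel
theorem ru209 : ∀ i, i < 19950 → fr i = true := below_step fr 19855 95 19950 ru208 rc209 rfl
theorem rc210 : allBelow (fun k => fr (Nat.add 19950 k)) 95 = true := by decide +kernel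
theorem ru210 : ∀ i, i < 20045 → fr i = true := below_step fr 19950 95 20045 ru209 rc210 rfl
theorem rc211 : allBelow (fun k => fr (Nat.add 20045 k)) 95 = true := by decide +kernel
theorem ru211 : ∀ i, i < 20140 → fr i = true := below_step fr 20045 95 20140 ru210 rc211 rfl
theorem rc212 : allBelow (fun k => fr (Nat.add 20140 k)) 95 = true := by decide +kernel
theorem ru212 : ∀ i, i < 20235 → fr i = true := below_step fr 20140 95 20235 ru211 rc212 rfl
theorem rc213 : allBelow (fun k => fr (Nat.add 20235 k)) 95 = true := by decide +kernel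
theorem ru213 : ∀ i, i < 20330 → fr i = true := below_step fr 20235 95 20330 ru212 rc213 rfl
theorem rc214 : allBelow (fun k => fr (Nat.add 20330 k)) 95 = true := by decide +kernel
theorem ru214 : ∀ i, i < 20425 → fr i = true := below_step fr 20330 95 20425 ru213 rc214 rfl
theorem rc215 : allBelow (fun k => fr (Nat.add 20425 k)) 95 = true := by decide +kernel
theorem ru215 : ∀ i, i < 20520 → fr i = true := below_step fr 20425 95 20520 ru214 rc215 rfl
theorem rc216 : allBelow (fun k => fr (Nat.add 20520 k)) 95 = true := by decide +kernel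
theorem ru216 : ∀ i, i < 20615 → fr i = true := below_step fr 20520 95 20615 ru215 rc216 rfl
theorem rc217 : allBelow (fun k => fr (Nat.add 20615 k)) 95 = true := by decide +kernel
theorem ru217 : ∀ i, i < 20710 → fr i = true := below_step fr 20615 95 20710 ru216 rc217 rfl
theorem rc218 : allBelow (fun k => fr (Nat.add 20710 k)) 95 = true := by decide +kernel
theorem ru218 : ∀ i, i < 20805 → fr i = true := below_step fr 20710 95 20805 ru217 rc218 rfl
theorem rc219 : allBelow (fun k => fr (Nat.add 20805 k)) 95 = true := by decide +kernel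
theorem ru219 : ∀ i, i < 20900 → fr i = true := below_step fr 20805 95 20900 ru218 rc219 rfl
theorem rc220 : allBelow (fun k => fr (Nat.add 20900 k)) 95 = true := by decide +kernel
theorem ru220 : ∀ i, i < 20995 → fr i = true := below_step fr 20900 95 20995 ru219 rc220 rfl
theorem rc221 : allBelow (fun k => fr (Nat.add 20995 k)) 95 = true := by decide +kernel
theorem ru221 : ∀ i, i < 21090 → fr i = true := below_step fr 20995 95 21090 ru220 rc221 rfl
theorem rc222 : allBelow (fun k => fr (Nat.add 21090 k)) 95 = true := by decide +kernel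
theorem ru222 : ∀ i, i < 21185 → fr i = true := below_step fr 21090 95 21185 ru221 rc222 rfl
theorem rc223 : allBelow (fun k => fr (Nat.add 21185 k)) 95 = true := by decide +kernel
theorem ru223 : ∀ i, i < 21280 → fr i = true := below_step fr 21185 95 21280 ru222 rc223 rfl
theorem rc224 : allBelow (fun k => fr (Nat.add 21280 k)) 95 = true := by decide +kernel
theorem ru224 : ∀ i, i < 21375 → fr i = true := below_step fr 21280 95 21375 ru223 rc224 rfl
theorem rc225 : allBelow (fun k => fr (Nat.add 21375 k)) 95 = true := by decide +kernel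
theorem ru225 : ∀ i, i < 21470 → fr i = true := below_step fr 21375 95 21470 ru224 rc225 rfl
theorem rc226 : allBelow (fun k => fr (Nat.add 21470 k)) 95 = true := by decide +kernel
theorem ru226 : ∀ i, i < 21565 → fr i = true := below_step fr 21470 95 21565 ru225 rc226 rfl
theorem rc227 : allBelow (fun k => fr (Nat.add 21565 k)) 95 = true := by decide +kernel
theorem ru227 : ∀ i, i < 21660 → fr i = true := below_step fr 21565 95 21660 ru226 rc227 rfl
theorem rc228 : allBelow (fun k => fr (Nat.add 21660 k)) 95 = true := by decide +kernel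
theorem ru228 : ∀ i, i < 21755 → fr i = true := below_step fr 21660 95 21755 ru227 rc228 rfl
theorem rc229 : allBelow (fun k => fr (Nat.add 21755 k)) 95 = true := by decide +kernel
theorem ru229 : ∀ i, i < 21850 → fr i = true := below_step fr 21755 95 21850 ru228 rc229 rfl
theorem rc230 : allBelow (fun k => fr (Nat.add 21850 k)) 95 = true := by decide +kernel
theorem ru230 : ∀ i, i < 21945 → fr i = true := below_step fr 21850 95 21945 ru229 rc230 rfl
theorem rc231 : allBelow (fun k => fr (Nat.add 21945 k)) 95 = true := by decide +kernel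
theorem ru231 : ∀ i, i < 22040 → fr i = true := below_step fr 21945 95 22040 ru230 rc231 rfl
theorem rc232 : allBelow (fun k => fr (Nat.add 22040 k)) 95 = true := by decide +kernel
theorem ru232 : ∀ i, i < 22135 → fr i = true := below_step fr 22040 95 22135 ru231 rc232 rfl
theorem rc233 : allBelow (fun k => fr (Nat.add 22135 k)) 95 = true := by decide +kernel
theorem ru233 : ∀ i, i < 22230 → fr i = true := below_step fr 22135 95 22230 ru232 rc233 rfl
theorem rc234 : allBelow (fun k => fr (Nat.add 22230 k)) 95 = true := by decide +kernel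
theorem ru234 : ∀ i, i < 22325 → fr i = true := below_step fr 22230 95 22325 ru233 rc234 rfl
theorem rc235 : allBelow (fun k => fr (Nat.add 22325 k)) 95 = true := by decide +kernel
theorem ru235 : ∀ i, i < 22420 → fr i = true := below_step fr 22325 95 22420 ru234 rc235 rfl
theorem rc236 : allBelow (fun k => fr (Nat.add 22420 k)) 95 = true := by decide +kernel
theorem ru236 : ∀ i, i < 22515 → fr i = true := below_step fr 22420 95 22515 ru235 rc236 rfl
theorem rc237 : allBelow (fun k => fr (Nat.add 22515 k)) 95 = true := by decide +kernel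
theorem ru237 : ∀ i, i < 22610 → fr i = true := below_step fr 22515 95 22610 ru236 rc237 rfl
theorem rc238 : allBelow (fun k => fr (Nat.add 22610 k)) 95 = true := by decide +kernel
theorem ru238 : ∀ i, i < 22705 → fr i = true := below_step fr 22610 95 22705 ru237 rc238 rfl
theorem rc239 : allBelow (fun k => fr (Nat.add 22705 k)) 95 = true := by decide +kernel
theorem ru239 : ∀ i, i < 22800 → fr i = true := below_step fr 22705 95 22800 ru238 rc239 rfl
theorem rc240 : allBelow (fun k => fr (Nat.add 22800 k)) 80 = true := by decide +kernel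
theorem ru240 : ∀ i, i < 22880 → fr i = true := below_step fr 22800 80 22880 ru239 rc240 rfl
theorem c0c0 : allBelow (fun k => fc0 (Nat.add 0 k)) 11494 = true := by decide +kernel
theorem c0u0 : ∀ i, i < 11494 → fc0 i = true := below_step fc0 0 11494 11494 (below_zero fc0) c0c0 rfl
theorem c0c1 : allBelow (fun k => fc0 (Nat.add 11494 k)) 11386 = true := by decide +kernel
theorem c0u1 : ∀ i, i < 22880 → fc0 i = true := below_step fc0 11494 11386 22880 c0u0 c0c1 rfl
theorem c1c0 : allBelow (fun k => fc1 (Nat.add 0 k)) 11494 = true := by decide +kernel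
theorem c1u0 : ∀ i, i < 11494 → fc1 i = true := below_step fc1 0 11494 11494 (below_zero fc1) c1c0 rfl
theorem c1c1 : allBelow (fun k => fc1 (Nat.add 11494 k)) 11386 = true := by decide +kernel
theorem c1u1 : ∀ i, i < 22880 → fc1 i = true := below_step fc1 11494 11386 22880 c1u0 c1c1 rfl
theorem c2c0 : allBelow (fun k => fc2 (Nat.add 0 k)) 11494 = true := by decide +kernel
theorem c2u0 : ∀ i, i < 11494 → fc2 i = true := below_step fc2 0 11494 11494 (below_zero fc2) c2c0 rfl
theorem c2c1 : allBelow (fun k => fc2 (Nat.add 11494 k)) 11386 = true := by decide +kernel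
theorem c2u1 : ∀ i, i < 22880 → fc2 i = true := below_step fc2 11494 11386 22880 c2u0 c2c1 rfl
theorem c3c0 : allBelow (fun k => fc3 (Nat.add 0 k)) 11494 = true := by decide +kernel
theorem c3u0 : ∀ i, i < 11494 → fc3 i = true := below_step fc3 0 11494 11494 (below_zero fc3) c3c0 rfl
theorem c3c1 : allBelow (fun k => fc3 (Nat.add 11494 k)) 11386 = true := by decide +kernel
theorem c3u1 : ∀ i, i < 22880 → fc3 i = true := below_step fc3 11494 11386 22880 c3u0 c3c1 rfl
theorem c4c0 : allBelow (fun k => fc4 (Nat.add 0 k)) 11494 = true := by decide +kernel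
theorem c4u0 : ∀ i, i < 11494 → fc4 i = true := below_step fc4 0 11494 11494 (below_zero fc4) c4c0 rfl
theorem c4c1 : allBelow (fun k => fc4 (Nat.add 11494 k)) 11386 = true := by decide +kernel
theorem c4u1 : ∀ i, i < 22880 → fc4 i = true := below_step fc4 11494 11386 22880 c4u0 c4c1 rfl
theorem c5c0 : allBelow (fun k => fc5 (Nat.add 0 k)) 11494 = true := by decide +kernel
theorem c5u0 : ∀ i, i < 11494 → fc5 i = true := below_step fc5 0 11494 11494 (below_zero fc5) c5c0 rfl
theorem c5c1 : allBelow (fun k => fc5 (Nat.add 11494 k)) 11386 = true := by decide +kernel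
theorem c5u1 : ∀ i, i < 22880 → fc5 i = true := below_step fc5 11494 11386 22880 c5u0 c5c1 rfl
theorem c6c0 : allBelow (fun k => fc6 (Nat.add 0 k)) 11494 = true := by decide +kernel
theorem c6u0 : ∀ i, i < 11494 → fc6 i = true := below_step fc6 0 11494 11494 (below_zero fc6) c6c0 rfl
theorem c6c1 : allBelow (fun k => fc6 (Nat.add 11494 k)) 11386 = true := by decide +kernel
theorem c6u1 : ∀ i, i < 22880 → fc6 i = true := below_step fc6 11494 11386 22880 c6u0 c6c1 rfl
theorem tc0 : allBelow (fun k => ft (Nat.add (Nat.succ 0) k)) 7662 = true := by decide +kernel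
theorem tu0 : ∀ v, 1 ≤ v → v ≤ 7662 → ft v = true := slots_step ft 0 7662 7662 (slots_zero ft) tc0 rfl
theorem tc1 : allBelow (fun k => ft (Nat.add (Nat.succ 7662) k)) 7662 = true := by decide +kernel
theorem tu1 : ∀ v, 1 ≤ v → v ≤ 15324 → ft v = true := slots_step ft 7662 7662 15324 tu0 tc1 rfl
theorem tc2 : allBelow (fun k => ft (Nat.add (Nat.succ 15324) k)) 7555 = true := by decide +kernel
theorem tu2 : ∀ v, 1 ≤ v → v ≤ 22879 → ft v = true := slots_step ft 15324 7555 22879 tu1 tc2 rfl

end Cfsg.Agent.Lib.Helper35.Suz22880
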